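import Groth.Agent.PicH1.Sections

/-!
# Cocycles with values in an abelian sheaf
-/

set_option autoImplicit false
set_option linter.style.haveILetI false
set_option linter.unusedSectionVars false
set_option backward.isDefEq.respectTransparency false
set_option backward.isDefEq.respectTransparency.types false

universe u

open CategoryTheory CategoryTheory.Limits TopologicalSpace Opposite

noncomputable section

namespace Groth.Agent.PicH1

variable {X : TopCat.{u}} {F G : CohTop.Ab X}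

/-- A one-cocycle on a covering indexed by the points. -/
structure Coc (F : CohTop.Ab X) where
  U : X → Opens X
  mem : ∀ x, x ∈ U x
  g : ∀ x y, Sect F (U x ⊓ U y)
  coc : ∀ (x y z : X) (W : Opens X) (h₁ : W ≤ U x ⊓ U y) (h₂ : W ≤ U y ⊓ U z) (h₃ : W ≤ U x ⊓ U z),
    res F h₁ (g x y) + res F h₂ (g y z) = res F h₃ (g x z)

namespace Coc

theorem g_self (C : Coc F) (x : X) : C.g x x = 0 := by
  have h := C.coc x x x _ le_rfl le_rfl le_rfl
  rw [res_self] at h
  exact add_eq_left.1 h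

/-- The image of a cocycle. -/
def map (φ : F ⟶ G) (C : Coc F) : Coc G where
  U := C.U
  mem := C.mem
  g x y := app φ _ (C.g x y)
  coc x y z W h₁ h₂ h₃ := by
    rw [← app_res, ← app_res, ← app_res, ← map_add, C.coc x y z W h₁ h₂ h₃]

theorem inter_le {A A' B B' : Opens X} : A ⊓ A' ⊓ (B ⊓ B') ≤ A ⊓ B := inf_le_inf inf_le_left inf_le_left

theorem inter_le' {A A' B B' : Opens X} : A ⊓ A' ⊓ (B ⊓ B') ≤ A' ⊓ B' := inf_le_inf inf_le_right inf_le_right

/-- The sum, on the common refinement. -/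
def add (C D : Coc F) : Coc F where
  U x := C.U x ⊓ D.U x
  mem x := ⟨C.mem x, D.mem x⟩
  g x y := res F inter_le (C.g x y) + res F inter_le' (D.g x y)
  coc x y z W h₁ h₂ h₃ := by
    simp only [map_add, res_res]
    rw [add_add_add_comm, C.coc x y z W _ _ (h₃.trans inter_le), D.coc x y z W _ _ (h₃.trans inter_le')]

/-- A cocycle is a coboundary after refinement. -/
def IsTriv (C : Coc F) : Prop :=
  ∃ (V : X → Opens X) (_ : ∀ x, x ∈ V x) (hV : ∀ x, V x ≤ C.U x) (t : ∀ x, Sect F (V x)),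
    ∀ x y, res F (inf_le_inf (hV x) (hV y)) (C.g x y) =
      res F (inf_le_left : V x ⊓ V y ≤ V x) (t x) - res F (inf_le_right : V x ⊓ V y ≤ V y) (t y)

/-- Global sections split a cocycle. -/
def IsSplit (C : Coc F) (s : ∀ x, Sect F (C.U x)) : Prop :=
  ∀ x y, C.g x y = res F (inf_le_left : C.U x ⊓ C.U y ≤ C.U x) (s x) -
    res F (inf_le_right : C.U x ⊓ C.U y ≤ C.U y) (s y)

/-- Sections of another sheaf split the image of a cocycle. -/
def Splits (C : Coc F) (φ : F ⟶ G) (s : ∀ x, Sect G (C.U x)) : Prop :=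
  ∀ x y, app φ _ (C.g x y) = res G (inf_le_left : C.U x ⊓ C.U y ≤ C.U x) (s x) -
    res G (inf_le_right : C.U x ⊓ C.U y ≤ C.U y) (s y)

/-- The cocycles of a flasque sheaf split. -/
theorem exists_isSplit [TopCat.Sheaf.IsFlasque F] (C : Coc F) : ∃ s, C.IsSplit s := by
  let Good : Set (Σ x : X, Sect F (C.U x)) → Prop := fun A => ∀ p ∈ A, ∀ q ∈ A,
    C.g p.1 q.1 = res F (inf_le_left : C.U p.1 ⊓ C.U q.1 ≤ C.U p.1) p.2 -
      res F (inf_le_right : C.U p.1 ⊓ C.U q.1 ≤ C.U q.1) q.2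
  obtain ⟨A, -, hA⟩ := zorn_subset_nonempty {A | Good A} (fun c hc hch _ => ⟨⋃₀ c, fun p ⟨a, ha, hp⟩ q ⟨b, hb, hq⟩ => by
      rcases hch.total ha hb with h | h
      · exact hc hb p (h hp) q hq
      · exact hc ha p hp q (h hq), fun a ha => Set.subset_sUnion_of_mem ha⟩) ∅ (fun p hp => hp.elim)
  have hall : ∀ b : X, ∃ s, (⟨b, s⟩ : Σ x : X, Sect F (C.U x)) ∈ A := by
    intro b
    by_contra hb
    -- the sections forced on the traces of the indices already chosen
    obtain ⟨τ, hτ⟩ := exists_glue (fun a : A => C.U a.1.1 ⊓ C.U b) (⨆ a : A, C.U a.1.1 ⊓ C.U b)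
        (le_iSup fun a : A => C.U a.1.1 ⊓ C.U b) (fun x hx => Opens.mem_iSup.1 hx)
        (fun a => res F (inf_le_left : C.U a.1.1 ⊓ C.U b ≤ C.U a.1.1) a.1.2 - C.g a.1.1 b) fun a a' => by
      have h := C.coc a.1.1 a'.1.1 b (C.U a.1.1 ⊓ C.U b ⊓ (C.U a'.1.1 ⊓ C.U b))
        (inf_le_inf inf_le_left inf_le_left) inf_le_right inf_le_left
      rw [hA.1 a.1 a.2 a'.1 a'.2, map_sub, res_res, res_res] at h
      rw [map_sub, map_sub, res_res, res_res, ← h]
      abel
    obtain ⟨σ, hσ⟩ := surjective_res (F := F)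
      (iSup_le fun a : A => (inf_le_right : C.U a.1.1 ⊓ C.U b ≤ C.U b)) τ
    have key : ∀ a : A, C.g a.1.1 b = res F (inf_le_left : C.U a.1.1 ⊓ C.U b ≤ C.U a.1.1) a.1.2 -
        res F (inf_le_right : C.U a.1.1 ⊓ C.U b ≤ C.U b) σ := fun a => by
      have := hτ a
      rw [← hσ, res_res] at this
      rw [this]
      abel
    refine hb ⟨σ, hA.2 (y := insert ⟨b, σ⟩ A) ?_ (Set.subset_insert _ _) (Set.mem_insert _ _)⟩
    intro p hp q hq
    have hbb : C.g b b = res F (inf_le_left : C.U b ⊓ C.U b ≤ C.U b) σ -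
        res F (inf_le_right : C.U b ⊓ C.U b ≤ C.U b) σ := by
      rw [C.g_self]
      exact (sub_self _).symm
    rcases hp with rfl | hp <;> rcases hq with rfl | hq
    · exact hbb
    · have hba := C.coc b q.1 b (C.U b ⊓ C.U q.1) le_rfl (le_inf inf_le_right inf_le_left)
        (le_inf inf_le_left inf_le_left)
      rw [C.g_self, map_zero, key ⟨q, hq⟩, map_sub, res_res, res_res, res_self] at hba
      rw [eq_neg_of_add_eq_zero_left hba]
      abel
    · exact key ⟨p, hp⟩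
    · exact hA.1 p hp q hq
  choose s hs using hall
  exact ⟨s, fun x y => hA.1 _ (hs x) _ (hs y)⟩

theorem exists_splits [TopCat.Sheaf.IsFlasque G] (C : Coc F) (φ : F ⟶ G) : ∃ s, C.Splits φ s :=
  (C.map φ).exists_isSplit

theorem Splits.res_eq {C : Coc F} {φ : F ⟶ G} {s : ∀ x, Sect G (C.U x)} (h : C.Splits φ s) (x y : X) {W : Opens X}
    (hx : W ≤ C.U x) (hy : W ≤ C.U y) :
    res G (le_inf hx hy) (app φ _ (C.g x y)) = res G hx (s x) - res G hy (s y) := by
  rw [h x y, map_sub, res_res, res_res]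

end Coc

/-- A fixed embedding into an injective sheaf. -/
abbrev seq (F : CohTop.Ab X) : ShortComplex (CohTop.Ab X) :=
  ShortComplex.mk (Injective.ι F) (cokernel.π (Injective.ι F)) (cokernel.condition _)

theorem seq_shortExact (F : CohTop.Ab X) : (seq F).ShortExact :=
  { exact := ShortComplex.exact_of_g_is_cokernel _ (cokernelIsCokernel _) }

/-- A section of the cokernel obtained from a splitting in the injective sheaf. -/
def IsLift (C : Coc F) (q : Sect (seq F).X₃ ⊤) : Prop :=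
  ∃ s : ∀ x, Sect (seq F).X₂ (C.U x), C.Splits (seq F).f s ∧
    ∀ x, app (seq F).g _ (s x) = res (seq F).X₃ (le_top : C.U x ≤ ⊤) q

theorem exists_isLift_of_split (C : Coc F) {s : ∀ x, Sect (seq F).X₂ (C.U x)}
    (hs : C.Splits (seq F).f s) :
    ∃ q, ∀ x, res (seq F).X₃ (le_top : C.U x ≤ ⊤) q = app (seq F).g _ (s x) := by
  refine exists_glue C.U ⊤ (fun _ => le_top) (fun x _ => ⟨x, C.mem x⟩) _ fun x y => ?_
  have h : app (seq F).g _ (app (seq F).f (C.U x ⊓ C.U y) (C.g x y)) = 0 := by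
    rw [← app_comp, (seq F).zero]
    rfl
  rw [hs x y, map_sub, sub_eq_zero,
    app_res, app_res] at h
  exact h

theorem exists_isLift (C : Coc F) : ∃ q, IsLift C q := by
  haveI : Injective (seq F).X₂ := inferInstanceAs (Injective (Injective.under F))
  haveI := SiteBase.isFlasque_of_injective (seq F).X₂
  obtain ⟨s, hs⟩ := C.exists_splits (seq F).f
  obtain ⟨q, hq⟩ := exists_isLift_of_split C hs
  exact ⟨q, s, hs, fun x => (hq x).symm⟩

/-- Sections of degree zero cohomology. -/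
abbrev e₀ (F : CohTop.Ab X) : CohTop.H F 0 ≃+ Sect F ⊤ := Sheaf.H.equiv₀ F isTerminalTop

/-- The connecting map. -/
def δ {S : ShortComplex (CohTop.Ab X)} (hS : S.ShortExact) : Sect S.X₃ ⊤ →+ CohTop.H S.X₁ 1 :=
  (hS.extClass.postcomp _ (zero_add 1)).comp (e₀ S.X₃).symm.toAddMonoidHom

theorem δ_g {S : ShortComplex (CohTop.Ab X)} (hS : S.ShortExact) (i : Sect S.X₂ ⊤) :
    δ hS (app S.g ⊤ i) = 0 := by
  show Abelian.Ext.comp ((e₀ S.X₃).symm (app S.g ⊤ i)) hS.extClass (zero_add 1) = 0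
  rw [show (e₀ S.X₃).symm (app S.g ⊤ i) = Sheaf.H.map S.g 0 ((e₀ S.X₂).symm i) from
    (Sheaf.H.equiv₀_symm_naturality isTerminalTop S.g i).symm]
  show (Abelian.Ext.comp ((e₀ S.X₂).symm i) (Abelian.Ext.mk₀ S.g) (add_zero 0)).comp hS.extClass (zero_add 1) = 0
  rw [Abelian.Ext.comp_assoc_of_second_deg_zero, hS.comp_extClass, Abelian.Ext.comp_zero]

theorem δ_naturality {S T : ShortComplex (CohTop.Ab X)} (hS : S.ShortExact) (hT : T.ShortExact) (φ : S ⟶ T)
    (q : Sect S.X₃ ⊤) : δ hT (app φ.τ₃ ⊤ q) = Sheaf.H.map φ.τ₁ 1 (δ hS q) := by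
  show Abelian.Ext.comp ((e₀ T.X₃).symm (app φ.τ₃ ⊤ q)) hT.extClass (zero_add 1) =
    Abelian.Ext.comp (Abelian.Ext.comp ((e₀ S.X₃).symm q) hS.extClass (zero_add 1)) (Abelian.Ext.mk₀ φ.τ₁)
      (add_zero 1)
  rw [show (e₀ T.X₃).symm (app φ.τ₃ ⊤ q) = Sheaf.H.map φ.τ₃ 0 ((e₀ S.X₃).symm q) from
    (Sheaf.H.equiv₀_symm_naturality isTerminalTop φ.τ₃ q).symm]
  show (Abelian.Ext.comp ((e₀ S.X₃).symm q) (Abelian.Ext.mk₀ φ.τ₃) (add_zero 0)).comp hT.extClass (zero_add 1) = _
  rw [Abelian.Ext.comp_assoc_of_second_deg_zero, Abelian.Ext.comp_assoc_of_third_deg_zero,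
    hS.extClass_naturality hT φ]

/-- The cohomology class of a cocycle. -/
def η (C : Coc F) : CohTop.H F 1 :=
  δ (seq_shortExact F) (exists_isLift C).choose

/-- Two splittings with the same differences on a refinement give the same class. -/
theorem δ_eq_of_refine {q q' : Sect (seq F).X₃ ⊤} {V : X → Opens X} (hV : ∀ x, x ∈ V x)
    (s s' : ∀ x, Sect (seq F).X₂ (V x))
    (hq : ∀ x, app (seq F).g _ (s x) = res (seq F).X₃ le_top q)
    (hq' : ∀ x, app (seq F).g _ (s' x) = res (seq F).X₃ le_top q')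
    (h : ∀ x y, res (seq F).X₂ (inf_le_left : V x ⊓ V y ≤ V x) (s x - s' x) =
      res (seq F).X₂ (inf_le_right : V x ⊓ V y ≤ V y) (s y - s' y)) :
    δ (seq_shortExact F) q = δ (seq_shortExact F) q' := by
  obtain ⟨i, hi⟩ := exists_glue V ⊤ (fun _ => le_top) (fun x _ => ⟨x, hV x⟩) _ h
  have : app (seq F).g ⊤ i = q - q' := ext_of_cover V (fun _ => le_top) (fun x _ => ⟨x, hV x⟩) fun x => by
    rw [← app_res, hi x, map_sub, map_sub, hq, hq']
  rw [← sub_eq_zero, ← map_sub, ← this, δ_g]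

theorem η_eq_of_refine {C : Coc F} {q : Sect (seq F).X₃ ⊤} {V : X → Opens X} (hV : ∀ x, x ∈ V x)
    (hle : ∀ x, V x ≤ C.U x) (s : ∀ x, Sect (seq F).X₂ (V x))
    (hsplit : ∀ x y, res (seq F).X₂ (inf_le_inf (hle x) (hle y)) (app (seq F).f _ (C.g x y)) =
      res (seq F).X₂ (inf_le_left : V x ⊓ V y ≤ V x) (s x) - res (seq F).X₂ (inf_le_right : V x ⊓ V y ≤ V y) (s y))
    (hq : ∀ x, app (seq F).g _ (s x) = res (seq F).X₃ le_top q) : η C = δ (seq_shortExact F) q := by
  obtain ⟨s₀, hs₀, hq₀⟩ := (exists_isLift C).choose_spec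
  refine δ_eq_of_refine hV (fun x => res _ (hle x) (s₀ x)) s (fun x => ?_) hq fun x y => ?_
  · rw [app_res, hq₀, res_res]
  · have h := hs₀.res_eq x y (W := V x ⊓ V y) (inf_le_left.trans (hle x)) (inf_le_right.trans (hle y))
    have h' := hsplit x y
    rw [h] at h'
    simp only [map_sub, res_res]
    rw [sub_eq_sub_iff_sub_eq_sub]
    exact h'

theorem η_eq {C : Coc F} {q : Sect (seq F).X₃ ⊤} (h : IsLift C q) : η C = δ (seq_shortExact F) q := by
  obtain ⟨s, hs, hq⟩ := h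
  exact η_eq_of_refine C.mem (fun _ => le_rfl) s (fun x y => (res_self _ _).trans (hs x y)) hq

theorem η_eq_of_cohomologous {C D : Coc F} {V : X → Opens X} (hV : ∀ x, x ∈ V x)
    (hC : ∀ x, V x ≤ C.U x) (hD : ∀ x, V x ≤ D.U x) (t : ∀ x, Sect F (V x))
    (h : ∀ x y, res F (inf_le_inf (hD x) (hD y)) (D.g x y) = res F (inf_le_inf (hC x) (hC y)) (C.g x y) +
      (res F (inf_le_left : V x ⊓ V y ≤ V x) (t x) - res F (inf_le_right : V x ⊓ V y ≤ V y) (t y))) :
    η D = η C := by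
  obtain ⟨s, hs, hq⟩ := (exists_isLift C).choose_spec
  refine η_eq_of_refine hV hD (fun x => res _ (hC x) (s x) + app (seq F).f _ (t x)) (fun x y => ?_) fun x => ?_
  · have h' := hs.res_eq x y (W := V x ⊓ V y) (inf_le_left.trans (hC x)) (inf_le_right.trans (hC y))
    rw [← app_res, h x y, map_add, map_sub, app_res, app_res, app_res]
    simp only [map_add, res_res]
    rw [h']
    abel
  · rw [map_add, app_res, ← app_comp, (seq F).zero, hq, res_res]
    exact add_zero _

theorem η_add (C D : Coc F) : η (C.add D) = η C + η D := by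
  obtain ⟨s, hs, hq⟩ := (exists_isLift C).choose_spec
  obtain ⟨t, ht, hr⟩ := (exists_isLift D).choose_spec
  refine (η_eq ⟨fun x => res _ (inf_le_left : C.U x ⊓ D.U x ≤ C.U x) (s x) +
    res _ (inf_le_right : C.U x ⊓ D.U x ≤ D.U x) (t x), fun x y => ?_, fun x => ?_⟩).trans (map_add _ _ _)
  · show app (seq F).f (C.U x ⊓ D.U x ⊓ (C.U y ⊓ D.U y))
      (res F Coc.inter_le (C.g x y) + res F Coc.inter_le' (D.g x y)) =
        res (seq F).X₂ (inf_le_left : C.U x ⊓ D.U x ⊓ (C.U y ⊓ D.U y) ≤ C.U x ⊓ D.U x)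
          (res _ (inf_le_left : C.U x ⊓ D.U x ≤ C.U x) (s x) + res _ (inf_le_right : C.U x ⊓ D.U x ≤ D.U x) (t x)) -
        res (seq F).X₂ (inf_le_right : C.U x ⊓ D.U x ⊓ (C.U y ⊓ D.U y) ≤ C.U y ⊓ D.U y)
          (res _ (inf_le_left : C.U y ⊓ D.U y ≤ C.U y) (s y) + res _ (inf_le_right : C.U y ⊓ D.U y ≤ D.U y) (t y))
    rw [map_add, app_res, app_res]
    rw [hs x y, ht x y]
    simp only [map_add, map_sub, res_res]
    abel
  · show app (seq F).g (C.U x ⊓ D.U x) (res _ _ (s x) + res _ _ (t x)) = _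
    rw [map_add, app_res, app_res, hq, hr, res_res, res_res, ← map_add]
    rfl

theorem η_map (φ : F ⟶ G) (C : Coc F) : η (C.map φ) = Sheaf.H.map φ 1 (η C) := by
  haveI : Injective (seq G).X₂ := inferInstanceAs (Injective (Injective.under G))
  let ψ : (seq F).X₂ ⟶ (seq G).X₂ := Injective.factorThru (φ ≫ (seq G).f) (seq F).f
  have hψ : (seq F).f ≫ ψ = φ ≫ (seq G).f := Injective.comp_factorThru _ _
  let Φ : seq F ⟶ seq G :=
    { τ₁ := φ
      τ₂ := ψ
      τ₃ := cokernel.map (Injective.ι F) (Injective.ι G) φ ψ hψ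
      comm₁₂ := hψ.symm
      comm₂₃ := (cokernel.π_desc _ _ _).symm }
  obtain ⟨s, hs, hq⟩ := (exists_isLift C).choose_spec
  rw [show η C = δ (seq_shortExact F) (exists_isLift C).choose from rfl]
  refine (η_eq (C := C.map φ) ⟨fun x => app ψ _ (s x), fun x y => ?_, fun x => ?_⟩).trans
    (δ_naturality (seq_shortExact F) (seq_shortExact G) Φ _)
  · show app (seq G).f (C.U x ⊓ C.U y) (app φ _ (C.g x y)) = _
    rw [← app_comp, ← hψ, app_comp, hs x y, map_sub, app_res, app_res]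
    rfl
  · show app (seq G).g _ (app ψ _ (s x)) = _
    rw [← app_comp, show ψ ≫ (seq G).g = (seq F).g ≫ Φ.τ₃ from Φ.comm₂₃, app_comp, hq, app_res]
    rfl

theorem η_surjective (c : CohTop.H F 1) : ∃ C : Coc F, η C = c := by
  haveI : Injective (seq F).X₂ := inferInstanceAs (Injective (Injective.under F))
  obtain ⟨x₃, hx₃⟩ := Abelian.Ext.covariant_sequence_exact₁ _ (seq_shortExact F) c
    (Subsingleton.elim (α := CohTop.H (seq F).X₂ 1) _ _) (zero_add 1)
  let q : Sect (seq F).X₃ ⊤ := e₀ _ x₃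
  haveI : Epi (seq F).g := (seq_shortExact F).epi_g
  choose U hU hxU s hs using fun x : X => exists_local_preimage (seq F).g q (x := x) trivial
  have hk : ∀ x y, app (seq F).g _ (res (seq F).X₂ (inf_le_left : U x ⊓ U y ≤ U x) (s x) -
      res (seq F).X₂ (inf_le_right : U x ⊓ U y ≤ U y) (s y)) = 0 := fun x y => by
    rw [map_sub, app_res, app_res, hs, hs, res_res, res_res, sub_self]
  choose g hg using fun x y => exists_app_f_eq (seq_shortExact F) _ _ (hk x y)
  let C : Coc F := ⟨U, hxU, g, fun x y z W h₁ h₂ h₃ => injective_app_f (seq_shortExact F) W (by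
    rw [map_add, app_res, app_res, app_res, hg, hg, hg, map_sub, map_sub, map_sub, res_res, res_res, res_res,
      res_res, res_res, res_res]
    exact sub_add_sub_cancel _ _ _)⟩
  refine ⟨C, (η_eq (C := C) (q := q) ⟨s, hg, hs⟩).trans ?_⟩
  show Abelian.Ext.comp ((e₀ _).symm q) (seq_shortExact F).extClass (zero_add 1) = c
  rw [AddEquiv.symm_apply_apply]
  exact hx₃

theorem η_eq_zero_iff (C : Coc F) : η C = 0 ↔ C.IsTriv := by
  refine ⟨fun h => ?_, fun ⟨V, hV, hle, t, ht⟩ => ?_⟩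
  · obtain ⟨s, hs, hq⟩ := (exists_isLift C).choose_spec
    generalize hqdef : (exists_isLift C).choose = q at hq
    have h0 : Abelian.Ext.comp ((e₀ _).symm q) (seq_shortExact F).extClass (zero_add 1) = 0 := by
      rw [← hqdef]; exact h
    obtain ⟨x₂, hx₂⟩ := Abelian.Ext.covariant_sequence_exact₃ _ (seq_shortExact F) _ (zero_add 1) h0
    have hi : app (seq F).g ⊤ (e₀ _ x₂) = q := by
      show (seq F).g.hom.app (op ⊤) (e₀ _ x₂) = q
      rw [Sheaf.H.equiv₀_naturality]
      show e₀ _ (Abelian.Ext.comp x₂ (Abelian.Ext.mk₀ (seq F).g) (add_zero 0)) = q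
      rw [hx₂, AddEquiv.apply_symm_apply]
    have hk : ∀ x, app (seq F).g _ (s x - res _ (le_top : C.U x ≤ ⊤) (e₀ _ x₂)) = 0 := fun x => by
      rw [map_sub, hq, app_res, hi, sub_self]
    choose t ht using fun x => exists_app_f_eq (seq_shortExact F) _ _ (hk x)
    refine ⟨C.U, C.mem, fun _ => le_rfl, t, fun x y => injective_app_f (seq_shortExact F) _ ?_⟩
    rw [res_self, map_sub, app_res, app_res, ht, ht, map_sub, map_sub, res_res, res_res,
      hs x y]
    exact (sub_sub_sub_cancel_right _ _ _).symm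
  · rw [η_eq_of_refine (q := 0) hV hle (fun x => app (seq F).f _ (t x)) (fun x y => by
      rw [← app_res, ht x y, map_sub, app_res, app_res]) (fun x => by
      rw [← app_comp, (seq F).zero, map_zero]; rfl), map_zero]

end Groth.Agent.PicH1
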