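import Groth.Agent.PicH1.Units
import Groth.Agent.H23.PicMul
import Groth.Agent.H23.EndInv
import Groth.Agent.PicFRel.SigmaMod

/-!
# Invertible modules on the source of a morphism and cocycles on the target
-/

set_option autoImplicit false
set_option linter.style.haveILetI false
set_option linter.unusedSectionVars false
set_option backward.isDefEq.respectTransparency false
set_option backward.isDefEq.respectTransparency.types false

universe u

open CategoryTheory CategoryTheory.Limits AlgebraicGeometry TopologicalSpace Opposite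

noncomputable section

namespace Groth.Agent.PicH1

open Groth.Agent Groth.Agent.AModX Groth.Agent.InvX

variable {X X' : Scheme.{u}} (f : X ⟶ X')

/-- The direct image of the units sheaf. -/
abbrev PUn : CohTop.Ab X'.toTopCat := (CohTop.push f.base).obj (Un X)

/-- A section of the direct image as a unit. -/
abbrev toV {W : X'.Opens} (s : Sect (PUn f) W) : (Γ(X, f ⁻¹ᵁ W))ˣ :=
  UnitsSh.unitOfSect (O := X.presheaf) (U := op (f ⁻¹ᵁ W)) s

/-- A unit as a section of the direct image. -/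
abbrev ofV {W : X'.Opens} (v : (Γ(X, f ⁻¹ᵁ W))ˣ) : Sect (PUn f) W :=
  UnitsSh.sectOfUnit (O := X.presheaf) (U := op (f ⁻¹ᵁ W)) v

theorem toV_add {W : X'.Opens} (s t : Sect (PUn f) W) : toV f (s + t) = toV f s * toV f t := rfl

theorem toV_res {U W : X'.Opens} (h : W ≤ U) (s : Sect (PUn f) U) :
    (toV f (res (PUn f) h s) : Γ(X, f ⁻¹ᵁ W)) = resR (f.preimage_mono h) (toV f s : Γ(X, f ⁻¹ᵁ U)) := rfl

theorem toV_sub {W : X'.Opens} (s t : Sect (PUn f) W) : toV f (s - t) = toV f s * (toV f t)⁻¹ := by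
  rw [sub_eq_add_neg]; rfl

theorem ext_toV {W : X'.Opens} {s t : Sect (PUn f) W} (h : (toV f s : Γ(X, f ⁻¹ᵁ W)) = toV f t) : s = t :=
  congrArg (ofV f) (Units.ext h)

/-- The cocycle is the transition cocycle of frames over the preimages. -/
def RealisesOn (C : Coc (PUn f)) (L : X.Modules) : Prop :=
  ∃ e : ∀ x : X', Γ(L, f ⁻¹ᵁ C.U x), (∀ x, IsFrame (e x)) ∧ ∀ x y,
    AModX.res L (f.preimage_mono (inf_le_left : C.U x ⊓ C.U y ≤ C.U x)) (e x) =
      (toV f (C.g x y) : Γ(X, f ⁻¹ᵁ (C.U x ⊓ C.U y))) • AModX.res L (f.preimage_mono inf_le_right) (e y)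

theorem transition_resV {L : X.Modules} {U : X' → X'.Opens} {e : ∀ x, Γ(L, f ⁻¹ᵁ U x)}
    {g : ∀ x y, Sect (PUn f) (U x ⊓ U y)}
    (h : ∀ x y, AModX.res L (f.preimage_mono (inf_le_left : U x ⊓ U y ≤ U x)) (e x) =
      (toV f (g x y) : Γ(X, f ⁻¹ᵁ (U x ⊓ U y))) • AModX.res L (f.preimage_mono inf_le_right) (e y))
    (x y : X') {W : X'.Opens} (hx : W ≤ U x) (hy : W ≤ U y) :
    AModX.res L (f.preimage_mono hx) (e x) =
      (toV f (res (PUn f) (le_inf hx hy) (g x y)) : Γ(X, f ⁻¹ᵁ W)) • AModX.res L (f.preimage_mono hy) (e y) := by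
  have := congrArg (AModX.res L (f.preimage_mono (le_inf hx hy : W ≤ U x ⊓ U y))) (h x y)
  rw [AModX.res_smul, AModX.res_res, AModX.res_res] at this
  rw [toV_res]
  exact this

theorem exists_cocOn [IsClosedImmersion f] {L : X.Modules} (hL : PicF.IsInvertible L) :
    ∃ C : Coc (PUn f), RealisesOn f C L := by
  have key : ∀ x : X', ∃ U : X'.Opens, x ∈ U ∧ ∃ e : Γ(L, f ⁻¹ᵁ U), IsFrame e := by
    intro x
    by_cases hx : x ∈ Set.range f
    · obtain ⟨z, rfl⟩ := hx
      obtain ⟨O, hzO, e, he⟩ := InvX.exists_frame hL z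
      obtain ⟨U', hU', hU''⟩ := f.isClosedEmbedding.isInducing.isOpen_iff.1 O.2
      have hle : f ⁻¹ᵁ ⟨U', hU'⟩ ≤ O := fun w hw => hU''.le hw
      exact ⟨⟨U', hU'⟩, hU''.ge hzO, _, he.res hle⟩
    · let U : X'.Opens := ⟨(Set.range f)ᶜ, f.isClosedEmbedding.isClosed_range.isOpen_compl⟩
      have hbot : ∀ w : X, w ∉ f ⁻¹ᵁ U := fun w hw => hw ⟨w, rfl⟩
      exact ⟨U, hx, 0, PicFRel.SigmaMod.isFrame_of_isEmpty hbot 0⟩
  choose U hxU e he using key
  obtain ⟨g, hg, hg3⟩ := PicFRel.InvApprox.exists_transition (fun x => f ⁻¹ᵁ U x) e he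
  refine ⟨⟨U, hxU, fun x y => ofV f (g x y), fun x y z W h₁ h₂ h₃ => ext_toV f ?_⟩, e, he, hg⟩
  rw [toV_add, Units.val_mul, toV_res, toV_res, toV_res, mul_comm]
  exact (hg3 x y z (f ⁻¹ᵁ W) (f.preimage_mono (h₁.trans inf_le_left)) (f.preimage_mono (h₁.trans inf_le_right))
    (f.preimage_mono (h₂.trans inf_le_right))).symm

theorem RealisesOn.of_iso {C : Coc (PUn f)} {L M : X.Modules} (h : RealisesOn f C L) (φ : L ≅ M) :
    RealisesOn f C M := by
  obtain ⟨e, he, hg⟩ := h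
  exact ⟨fun x => φ.hom.app _ (e x), fun x => (he x).map_iso φ, fun x y => by
    rw [← AModX.app_res φ.hom, hg, Scheme.Modules.Hom.app_smul, AModX.app_res]⟩

theorem RealisesOn.η_eq {C D : Coc (PUn f)} {L : X.Modules} (hC : RealisesOn f C L) (hD : RealisesOn f D L) :
    η D = η C := by
  obtain ⟨e, he, hg⟩ := hC
  obtain ⟨n, hn, hng⟩ := hD
  let V : X' → X'.Opens := fun x => C.U x ⊓ D.U x
  have key : ∀ x, ∃ t : Sect (PUn f) (V x),
      AModX.res L (f.preimage_mono (inf_le_right : V x ≤ D.U x)) (n x) =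
        (toV f t : Γ(X, f ⁻¹ᵁ V x)) • AModX.res L (f.preimage_mono (inf_le_left : V x ≤ C.U x)) (e x) := by
    intro x
    have hl := f.preimage_mono (inf_le_left : V x ≤ C.U x)
    have hr' := f.preimage_mono (inf_le_right : V x ≤ D.U x)
    obtain ⟨r, hr⟩ := (he x).exists_coord hl (AModX.res L hr' (n x))
    obtain ⟨r', hs⟩ := (hn x).exists_coord hr' (AModX.res L hl (e x))
    have h1 : r' * r = 1 := (he x).coord_unique hl (by rw [mul_smul, ← hr, ← hs, one_smul])
    exact ⟨ofV f (IsUnit.of_mul_eq_one r' (by rw [mul_comm]; exact h1)).unit, hr⟩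
  choose t ht using key
  refine η_eq_of_cohomologous (V := V) (fun x => ⟨C.mem x, D.mem x⟩) (fun _ => inf_le_left) (fun _ => inf_le_right) t
    fun x y => ext_toV f ((he y).coord_unique (f.preimage_mono (inf_le_right.trans inf_le_left : V x ⊓ V y ≤ C.U y)) ?_)
  have hW := transition_resV f hng x y (W := V x ⊓ V y) (inf_le_left.trans inf_le_right) (inf_le_right.trans inf_le_right)
  have hW' := transition_resV f hg x y (W := V x ⊓ V y) (inf_le_left.trans inf_le_left) (inf_le_right.trans inf_le_left)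
  have hx := congrArg (AModX.res L (f.preimage_mono (inf_le_left : V x ⊓ V y ≤ V x))) (ht x)
  have hy := congrArg (AModX.res L (f.preimage_mono (inf_le_right : V x ⊓ V y ≤ V y))) (ht y)
  rw [AModX.res_smul, AModX.res_res, AModX.res_res, ← toV_res f (inf_le_left : V x ⊓ V y ≤ V x)] at hx
  rw [AModX.res_smul, AModX.res_res, AModX.res_res, ← toV_res f (inf_le_right : V x ⊓ V y ≤ V y)] at hy
  rw [hx, hy, hW', smul_smul, smul_smul] at hW
  have e1 := (he y).coord_unique (f.preimage_mono (inf_le_right.trans inf_le_left : V x ⊓ V y ≤ C.U y)) hW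
  congr 1
  rw [toV_add, toV_sub, Units.val_mul, Units.val_mul, ← mul_assoc]
  refine (Units.eq_mul_inv_iff_mul_eq _).2 (e1.symm.trans (mul_comm _ _))

theorem RealisesOn.add {C D : Coc (PUn f)} {L M : X.Modules} (hC : RealisesOn f C L) (hD : RealisesOn f D M) :
    RealisesOn f (C.add D) (CohB1.tensorMod L M) := by
  obtain ⟨e, he, hg⟩ := hC
  obtain ⟨n, hn, hng⟩ := hD
  refine ⟨fun x => tmul (AModX.res L (f.preimage_mono (inf_le_left : C.U x ⊓ D.U x ≤ C.U x)) (e x))
    (AModX.res M (f.preimage_mono (inf_le_right : C.U x ⊓ D.U x ≤ D.U x)) (n x)),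
    fun x => isFrame_tmul ((he x).res _) ((hn x).res _), fun x y => ?_⟩
  show AModX.res _ (f.preimage_mono (inf_le_left : C.U x ⊓ D.U x ⊓ (C.U y ⊓ D.U y) ≤ C.U x ⊓ D.U x)) _ =
    (toV f (res (PUn f) (Coc.inter_le (X := X'.toTopCat)) (C.g x y) +
      res (PUn f) (Coc.inter_le' (X := X'.toTopCat)) (D.g x y)) :
      Γ(X, f ⁻¹ᵁ (C.U x ⊓ D.U x ⊓ (C.U y ⊓ D.U y)))) •
      AModX.res _ (f.preimage_mono (inf_le_right : C.U x ⊓ D.U x ⊓ (C.U y ⊓ D.U y) ≤ C.U y ⊓ D.U y)) _
  rw [res_tmul, res_tmul, AModX.res_res, AModX.res_res, AModX.res_res, AModX.res_res,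
    transition_resV f hg x y (W := C.U x ⊓ D.U x ⊓ (C.U y ⊓ D.U y)) (inf_le_left.trans inf_le_left)
      (inf_le_right.trans inf_le_left),
    transition_resV f hng x y (W := C.U x ⊓ D.U x ⊓ (C.U y ⊓ D.U y)) (inf_le_left.trans inf_le_right)
      (inf_le_right.trans inf_le_right),
    tmul_smul_left, tmul_smul_right, smul_smul, toV_add, Units.val_mul]

theorem RealisesOn.iso_of_isTriv {C : Coc (PUn f)} {L : X.Modules} (hC : RealisesOn f C L) (h : C.IsTriv) :
    Nonempty (L ≅ Coh.structureModule X) := by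
  obtain ⟨e, he, hg⟩ := hC
  obtain ⟨V, hV, hle, t, ht⟩ := h
  refine PicFRel.InvApprox.nonempty_iso_of_transition (fun x : X' => f ⁻¹ᵁ V x) (fun z => ⟨f z, hV (f z)⟩)
    (fun x => AModX.res L (f.preimage_mono (hle x)) (e x))
    (fun x => ((toV f (t x) : Γ(X, f ⁻¹ᵁ V x)) • (show Γ(Coh.structureModule X, f ⁻¹ᵁ V x) from (1 : Γ(X, f ⁻¹ᵁ V x)))))
    (fun x => (he x).res _) (fun x => (InvX.isFrame_one _).isUnit_smul (toV f (t x)).isUnit)
    (fun x y => (toV f (res (PUn f) (inf_le_inf (hle x) (hle y)) (C.g x y)) : Γ(X, f ⁻¹ᵁ (V x ⊓ V y)))) (fun x y => ?_)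
    fun x y => ?_
  · rw [AModX.res_res, AModX.res_res]
    exact transition_resV f hg x y (W := V x ⊓ V y) (inf_le_left.trans (hle x)) (inf_le_right.trans (hle y))
  · show AModX.res _ (f.preimage_mono (inf_le_left : V x ⊓ V y ≤ V x)) _ =
      (toV f (res (PUn f) (inf_le_inf (hle x) (hle y)) (C.g x y)) : Γ(X, f ⁻¹ᵁ (V x ⊓ V y))) •
        AModX.res _ (f.preimage_mono (inf_le_right : V x ⊓ V y ≤ V y)) _
    rw [AModX.res_smul, AModX.res_smul, smul_smul, ht x y, toV_sub, Units.val_mul,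
      ← toV_res f (inf_le_left : V x ⊓ V y ≤ V x), ← toV_res f (inf_le_right : V x ⊓ V y ≤ V y),
      Units.inv_mul_cancel_right]
    congr 1
    exact (map_one (resR (f.preimage_mono (inf_le_left : V x ⊓ V y ≤ V x)))).trans
      (map_one (resR (f.preimage_mono (inf_le_right : V x ⊓ V y ≤ V y)))).symm

variable [IsClosedImmersion f]

/-- The class on the target of an invertible class on the source. -/
def ψ (c : PicLoc.PicSet X) : CohTop.H (PUn f) 1 :=
  η (exists_cocOn f c.2.choose_spec.2).choose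

theorem ψ_eq {c : PicLoc.PicSet X} {L : X.Modules} (hc : c.1 = PicF.cl L) {C : Coc (PUn f)}
    (h : RealisesOn f C L) : ψ f c = η C := by
  have h0 := (exists_cocOn f c.2.choose_spec.2).choose_spec
  obtain ⟨φ⟩ := (PicGrp.cl_eq_cl_iff _ _).1 (c.2.choose_spec.1.trans hc)
  exact h.η_eq f (h0.of_iso f φ)

theorem exists_repOn (c : PicLoc.PicSet X) : ∃ (L : X.Modules) (C : Coc (PUn f)),
    c.1 = PicF.cl L ∧ RealisesOn f C L ∧ ψ f c = η C :=
  ⟨_, _, c.2.choose_spec.1.symm, (exists_cocOn f c.2.choose_spec.2).choose_spec, rfl⟩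

theorem ψ_mul [PicGrp.Law X] (a b : PicLoc.PicSet X) : ψ f (a * b) = ψ f a + ψ f b := by
  obtain ⟨L, C, hL, hC, ha⟩ := exists_repOn f a
  obtain ⟨M, D, hM, hD, hb⟩ := exists_repOn f b
  rw [ha, hb, ← η_add]
  refine ψ_eq f ?_ (hC.add f hD)
  rw [PicGrp.Law.mul_val, hL, hM, PicGrp.mulCl_cl]

/-- The class as a homomorphism. -/
def ψHom [PicGrp.Law X] : Additive (PicLoc.PicSet X) →+ CohTop.H (PUn f) 1 :=
  AddMonoidHom.mk' (fun c => ψ f (Additive.toMul c)) fun a b => ψ_mul f (Additive.toMul a) (Additive.toMul b)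

theorem ψHom_injective [PicGrp.Law X] : Function.Injective (ψHom f) := by
  refine (injective_iff_map_eq_zero (ψHom f)).2 fun c h => ?_
  obtain ⟨L, C, hL, hC, hc⟩ := exists_repOn f (Additive.toMul c)
  have hη : η C = 0 := hc.symm.trans h
  have h2 : Additive.toMul c = PicLoc.unitPicSet X := Subtype.ext
    (hL.trans ((PicGrp.cl_eq_cl_iff _ _).2 (hC.iso_of_isTriv f ((η_eq_zero_iff C).1 hη))))
  have h1 : Additive.toMul c = 1 := h2.trans PicGrp.one_eq_unitPicSet.symm
  exact congrArg Additive.ofMul h1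

/-- Pullback of classes is the map of units on cohomology. -/
theorem ψ_pull (c : PicLoc.PicSet X') :
    ψ f ⟨PicF.pullCl f c.1, PicLoc.isInvertibleCl_pullCl f c.2⟩ = Sheaf.H.map (UnitsSh.comap f) 1 (θ c) := by
  obtain ⟨L, C, hL, -, ⟨e, he, hg⟩, hc⟩ := exists_rep c
  rw [hc, ← η_map]
  refine ψ_eq f (L := (Scheme.Modules.pullback f).obj L) (congrArg (PicF.pullCl f) hL)
    ⟨fun x => pullElt f (e x), fun x => isFrame_pullElt f (he x), fun x y => ?_⟩
  have h := congrArg (pullElt f) (hg x y)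
  rw [H23.EndInv.pullElt_smul, ← InvX.res_pullElt f, ← InvX.res_pullElt f] at h
  exact h

end Groth.Agent.PicH1
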