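import Groth.Prelude.Def_CohTop
import Groth.Agent.SiteBase.Top
import Mathlib.Topology.Sheaves.Flasque

/-!
# Sections of abelian sheaves on spaces
-/

set_option autoImplicit false
set_option linter.style.haveILetI false
set_option backward.isDefEq.respectTransparency false
set_option backward.isDefEq.respectTransparency.types false

universe u

open CategoryTheory CategoryTheory.Limits TopologicalSpace Opposite

noncomputable section

namespace Groth.Agent.PicH1

variable {X : TopCat.{u}} {F G H : CohTop.Ab X}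

/-- Sections. -/
abbrev Sect (F : CohTop.Ab X) (U : Opens X) : Type u := F.obj.obj (op U)

/-- Restriction. -/
def res (F : CohTop.Ab X) {U V : Opens X} (h : V ≤ U) : Sect F U →+ Sect F V :=
  (F.obj.map (homOfLE h).op).hom

/-- A morphism on sections. -/
def app (φ : F ⟶ G) (U : Opens X) : Sect F U →+ Sect G U := (φ.hom.app (op U)).hom

theorem res_self {U : Opens X} (h : U ≤ U) (s : Sect F U) : res F h s = s := by
  show F.obj.map (homOfLE h).op s = s
  rw [show (homOfLE h).op = 𝟙 (op U) from rfl, F.obj.map_id]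
  rfl

theorem res_res {U V W : Opens X} (h : V ≤ U) (h' : W ≤ V) (s : Sect F U) :
    res F h' (res F h s) = res F (h'.trans h) s := by
  show F.obj.map (homOfLE h').op (F.obj.map (homOfLE h).op s) = _
  rw [← ConcreteCategory.comp_apply, ← F.obj.map_comp]
  rfl

theorem app_res (φ : F ⟶ G) {U V : Opens X} (h : V ≤ U) (s : Sect F U) :
    app φ V (res F h s) = res G h (app φ U s) :=
  ConcreteCategory.congr_hom (φ.hom.naturality (homOfLE h).op) s

theorem app_comp (φ : F ⟶ G) (ψ : G ⟶ H) (U : Opens X) (s : Sect F U) :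
    app (φ ≫ ψ) U s = app ψ U (app φ U s) := rfl

theorem exists_glue {ι : Type u} (U : ι → Opens X) (V : Opens X) (hUV : ∀ i, U i ≤ V)
    (hV : ∀ x ∈ V, ∃ i, x ∈ U i) (s : ∀ i, Sect F (U i))
    (hs : ∀ i j, res F (inf_le_left : U i ⊓ U j ≤ U i) (s i) = res F (inf_le_right : U i ⊓ U j ≤ U j) (s j)) :
    ∃ t : Sect F V, ∀ i, res F (hUV i) t = s i := by
  obtain ⟨t, ht, -⟩ := TopCat.Sheaf.existsUnique_gluing' F U V (fun i => homOfLE (hUV i))
    (fun x hx => Opens.mem_iSup.2 (hV x hx)) s (fun i j => hs i j)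
  exact ⟨t, fun i => ht i⟩

theorem ext_of_cover {ι : Type u} (U : ι → Opens X) {V : Opens X} (hUV : ∀ i, U i ≤ V)
    (hV : ∀ x ∈ V, ∃ i, x ∈ U i) {s t : Sect F V} (h : ∀ i, res F (hUV i) s = res F (hUV i) t) : s = t :=
  TopCat.Sheaf.eq_of_locally_eq' F U V (fun i => homOfLE (hUV i)) (fun x hx => Opens.mem_iSup.2 (hV x hx)) s t h

theorem ext_of_locally {V : Opens X} {s t : Sect F V}
    (h : ∀ x ∈ V, ∃ W : Opens X, ∃ hW : W ≤ V, x ∈ W ∧ res F hW s = res F hW t) : s = t := by
  choose W hW hxW he using h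
  exact ext_of_cover (fun x : V => W x.1 x.2) (fun x => hW x.1 x.2)
    (fun x hx => ⟨⟨x, hx⟩, hxW x hx⟩) fun x => he x.1 x.2

theorem surjective_res [TopCat.Sheaf.IsFlasque F] {U V : Opens X} (h : V ≤ U) :
    Function.Surjective (res F h) :=
  (AddCommGrpCat.epi_iff_surjective (F.obj.map (homOfLE h).op)).1 (TopCat.Presheaf.IsFlasque.epi _)

/-- Local preimages under an epimorphism. -/
theorem exists_local_preimage (φ : F ⟶ G) [Epi φ] {U : Opens X} (t : Sect G U) {x : X} (hx : x ∈ U) :
    ∃ (V : Opens X) (hV : V ≤ U), x ∈ V ∧ ∃ s : Sect F V, app φ V s = res G hV t := by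
  obtain ⟨V, hV, ⟨s, hs⟩, hxV⟩ := (TopCat.Presheaf.isLocallySurjective_iff _).1
    ((TopCat.Sheaf.isLocallySurjective_iff_epi φ).2 inferInstance) U t x hx
  exact ⟨V, hV, hxV, s, hs⟩

variable {S : ShortComplex (CohTop.Ab X)} (hS : S.ShortExact)
include hS

theorem injective_app_f (U : Opens X) : Function.Injective (app S.f U) := by
  haveI := hS.mono_f
  let ev := sheafToPresheaf (Opens.grothendieckTopology X) AddCommGrpCat.{u} ⋙
    (evaluation (Opens X)ᵒᵖ AddCommGrpCat.{u}).obj (op U)
  haveI : Mono (ev.map S.f) := inferInstance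
  exact (AddCommGrpCat.mono_iff_injective _).1 (inferInstanceAs (Mono (ev.map S.f)))

theorem exists_app_f_eq (U : Opens X) (s : Sect S.X₂ U) (h : app S.g U s = 0) :
    ∃ t, app S.f U t = s := by
  haveI := hS.mono_f
  let ev := sheafToPresheaf (Opens.grothendieckTopology X) AddCommGrpCat.{u} ⋙
    (evaluation (Opens X)ᵒᵖ AddCommGrpCat.{u}).obj (op U)
  have := hS.exact.map_of_mono_of_preservesKernel ev inferInstance inferInstance
  exact ((ShortComplex.ab_exact_iff (S.map ev)).1 this) s h

end Groth.Agent.PicH1
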