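import Groth.Agent.PicH1.Cocycle
import Groth.Agent.PicFRel.InvApprox
import Groth.Agent.H23.CocycleMod
import Groth.Agent.InvX.Tensor
import Groth.Prelude.Def_UnitsSh
import Groth.Prelude.Def_PicGrp

/-!
# Invertible modules and cocycles of units
-/

set_option autoImplicit false
set_option linter.style.haveILetI false
set_option linter.unusedSectionVars false
set_option backward.isDefEq.respectTransparency false
set_option backward.isDefEq.respectTransparency.types false

universe u

open CategoryTheory CategoryTheory.Limits AlgebraicGeometry TopologicalSpace Opposite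

noncomputable section

namespace Groth.Agent.PicH1

open Groth.Agent Groth.Agent.AModX Groth.Agent.InvX

variable {X : Scheme.{u}}

/-- The units sheaf. -/
abbrev Un (X : Scheme.{u}) : CohTop.Ab X.toTopCat := UnitsSh.unitsAb X

/-- A section of the units sheaf as a unit. -/
abbrev toU {W : X.Opens} (s : Sect (Un X) W) : (Γ(X, W))ˣ :=
  UnitsSh.unitOfSect (O := X.presheaf) (U := op W) s

/-- A unit as a section of the units sheaf. -/
abbrev ofU {W : X.Opens} (v : (Γ(X, W))ˣ) : Sect (Un X) W :=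
  UnitsSh.sectOfUnit (O := X.presheaf) (U := op W) v

theorem toU_add {W : X.Opens} (s t : Sect (Un X) W) : toU (s + t) = toU s * toU t := rfl

theorem toU_res {U W : X.Opens} (h : W ≤ U) (s : Sect (Un X) U) :
    (toU (res (Un X) h s) : Γ(X, W)) = resR h (toU s : Γ(X, U)) := rfl

theorem toU_sub {W : X.Opens} (s t : Sect (Un X) W) : toU (s - t) = toU s * (toU t)⁻¹ := by
  rw [sub_eq_add_neg]; rfl

theorem ext_toU {W : X.Opens} {s t : Sect (Un X) W} (h : (toU s : Γ(X, W)) = toU t) : s = t :=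
  congrArg ofU (Units.ext h)

/-- The cocycle is the transition cocycle of frames of the module. -/
def Realises (C : Coc (Un X)) (L : X.Modules) : Prop :=
  ∃ e : ∀ x, Γ(L, C.U x), (∀ x, IsFrame (e x)) ∧ ∀ x y,
    AModX.res L (inf_le_left : C.U x ⊓ C.U y ≤ C.U x) (e x) =
      (toU (C.g x y) : Γ(X, C.U x ⊓ C.U y)) • AModX.res L inf_le_right (e y)

theorem transition_res {L : X.Modules} {U : X → X.Opens} {e : ∀ x, Γ(L, U x)} {g : ∀ x y, Sect (Un X) (U x ⊓ U y)}
    (h : ∀ x y, AModX.res L (inf_le_left : U x ⊓ U y ≤ U x) (e x) =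
      (toU (g x y) : Γ(X, U x ⊓ U y)) • AModX.res L inf_le_right (e y))
    (x y : X) {W : X.Opens} (hx : W ≤ U x) (hy : W ≤ U y) :
    AModX.res L hx (e x) = (toU (res (Un X) (le_inf hx hy) (g x y)) : Γ(X, W)) • AModX.res L hy (e y) := by
  have := congrArg (AModX.res L (le_inf hx hy : W ≤ U x ⊓ U y)) (h x y)
  rw [AModX.res_smul, AModX.res_res, AModX.res_res] at this
  rw [toU_res]
  exact this

theorem exists_coc {L : X.Modules} (hL : PicF.IsInvertible L) : ∃ C : Coc (Un X), Realises C L := by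
  choose U hxU e he using fun x : X => InvX.exists_frame hL x
  obtain ⟨g, hg, hg3⟩ := PicFRel.InvApprox.exists_transition U e he
  refine ⟨⟨U, hxU, fun x y => ofU (g x y), fun x y z W h₁ h₂ h₃ => ext_toU ?_⟩, e, he, hg⟩
  rw [toU_add, Units.val_mul, toU_res, toU_res, toU_res, mul_comm]
  exact (hg3 x y z W (h₁.trans inf_le_left) (h₁.trans inf_le_right) (h₂.trans inf_le_right)).symm

theorem exists_mod (C : Coc (Un X)) : ∃ L : X.Modules, PicF.IsInvertible L ∧ Realises C L := by
  let t : H23.CocycleMod.Cocycle C.U := ⟨fun x y => toU (C.g x y), fun x y z W hx hy hz => by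
    rw [← toU_res, ← toU_res, ← toU_res, ← C.coc x y z W (le_inf hx hy) (le_inf hy hz) (le_inf hx hz), toU_add,
      Units.val_mul, mul_comm]⟩
  exact ⟨H23.CocycleMod.mod t, H23.CocycleMod.isInvertible t (eq_top_iff.2 fun x _ =>
    Opens.mem_iSup.2 ⟨x, C.mem x⟩), H23.CocycleMod.frame t, H23.CocycleMod.isFrame_frame t,
    H23.CocycleMod.res_frame t⟩

theorem Realises.of_iso {C : Coc (Un X)} {L M : X.Modules} (h : Realises C L) (φ : L ≅ M) : Realises C M := by
  obtain ⟨e, he, hg⟩ := h
  exact ⟨fun x => φ.hom.app _ (e x), fun x => (he x).map_iso φ, fun x y => by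
    rw [← AModX.app_res φ.hom, hg, Scheme.Modules.Hom.app_smul, AModX.app_res]⟩

theorem Realises.nonempty_iso {C : Coc (Un X)} {L M : X.Modules} (hL : Realises C L) (hM : Realises C M) :
    Nonempty (L ≅ M) := by
  obtain ⟨e, he, hg⟩ := hL
  obtain ⟨n, hn, hng⟩ := hM
  exact PicFRel.InvApprox.nonempty_iso_of_transition C.U (fun x => ⟨x, C.mem x⟩) e n he hn _ hg hng

theorem Realises.η_eq {C D : Coc (Un X)} {L : X.Modules} (hC : Realises C L) (hD : Realises D L) :
    η D = η C := by
  obtain ⟨e, he, hg⟩ := hC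
  obtain ⟨n, hn, hng⟩ := hD
  let V : X → X.Opens := fun x => C.U x ⊓ D.U x
  have key : ∀ x, ∃ t : Sect (Un X) (V x),
      AModX.res L (inf_le_right : V x ≤ D.U x) (n x) = (toU t : Γ(X, V x)) • AModX.res L inf_le_left (e x) := by
    intro x
    obtain ⟨r, hr⟩ := (he x).exists_coord (inf_le_left : V x ≤ C.U x) (AModX.res L inf_le_right (n x))
    obtain ⟨r', hr'⟩ := (hn x).exists_coord (inf_le_right : V x ≤ D.U x) (AModX.res L inf_le_left (e x))
    have h1 : r' * r = 1 := (he x).coord_unique (inf_le_left : V x ≤ C.U x) (by rw [mul_smul, ← hr, ← hr', one_smul])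
    exact ⟨ofU (IsUnit.of_mul_eq_one r' (by rw [mul_comm]; exact h1)).unit, hr⟩
  choose t ht using key
  refine η_eq_of_cohomologous (V := V) (fun x => ⟨C.mem x, D.mem x⟩) (fun _ => inf_le_left) (fun _ => inf_le_right) t
    fun x y => ext_toU ((he y).coord_unique (inf_le_right.trans inf_le_left : V x ⊓ V y ≤ C.U y) ?_)
  have hW := transition_res hng x y (W := V x ⊓ V y) (inf_le_left.trans inf_le_right) (inf_le_right.trans inf_le_right)
  have hW' := transition_res hg x y (W := V x ⊓ V y) (inf_le_left.trans inf_le_left) (inf_le_right.trans inf_le_left)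
  have hx := congrArg (AModX.res L (inf_le_left : V x ⊓ V y ≤ V x)) (ht x)
  have hy := congrArg (AModX.res L (inf_le_right : V x ⊓ V y ≤ V y)) (ht y)
  rw [AModX.res_smul, AModX.res_res, AModX.res_res, ← toU_res] at hx hy
  rw [hx, hy, hW', smul_smul, smul_smul] at hW
  have e1 := (he y).coord_unique (inf_le_right.trans inf_le_left : V x ⊓ V y ≤ C.U y) hW
  congr 1
  rw [toU_add, toU_sub, Units.val_mul, Units.val_mul, ← mul_assoc]
  refine (Units.eq_mul_inv_iff_mul_eq _).2 (e1.symm.trans (mul_comm _ _))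

theorem Realises.add {C D : Coc (Un X)} {L M : X.Modules} (hC : Realises C L) (hD : Realises D M) :
    Realises (C.add D) (CohB1.tensorMod L M) := by
  obtain ⟨e, he, hg⟩ := hC
  obtain ⟨n, hn, hng⟩ := hD
  refine ⟨fun x => tmul (AModX.res L (inf_le_left : C.U x ⊓ D.U x ≤ C.U x) (e x))
    (AModX.res M (inf_le_right : C.U x ⊓ D.U x ≤ D.U x) (n x)),
    fun x => isFrame_tmul ((he x).res _) ((hn x).res _), fun x y => ?_⟩
  show AModX.res _ (inf_le_left : C.U x ⊓ D.U x ⊓ (C.U y ⊓ D.U y) ≤ C.U x ⊓ D.U x) _ =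
    (toU (res (Un X) (Coc.inter_le (X := X.toTopCat)) (C.g x y) + res (Un X) (Coc.inter_le' (X := X.toTopCat)) (D.g x y)) :
      Γ(X, C.U x ⊓ D.U x ⊓ (C.U y ⊓ D.U y))) •
      AModX.res _ (inf_le_right : C.U x ⊓ D.U x ⊓ (C.U y ⊓ D.U y) ≤ C.U y ⊓ D.U y) _
  rw [res_tmul, res_tmul, AModX.res_res, AModX.res_res, AModX.res_res, AModX.res_res,
    transition_res hg x y (inf_le_left.trans inf_le_left) (inf_le_right.trans inf_le_left),
    transition_res hng x y (inf_le_left.trans inf_le_right) (inf_le_right.trans inf_le_right),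
    tmul_smul_left, tmul_smul_right, smul_smul, toU_add, Units.val_mul]

/-- The module of a trivial cocycle is trivial. -/
theorem Realises.iso_of_isTriv {C : Coc (Un X)} {L : X.Modules} (hC : Realises C L) (h : C.IsTriv) :
    Nonempty (L ≅ Coh.structureModule X) := by
  obtain ⟨e, he, hg⟩ := hC
  obtain ⟨V, hV, hle, t, ht⟩ := h
  refine PicFRel.InvApprox.nonempty_iso_of_transition V (fun x => ⟨x, hV x⟩) (fun x => AModX.res L (hle x) (e x))
    (fun x => ((toU (t x) : Γ(X, V x)) • (show Γ(Coh.structureModule X, V x) from (1 : Γ(X, V x)))))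
    (fun x => (he x).res _) (fun x => (InvX.isFrame_one _).isUnit_smul (toU (t x)).isUnit)
    (fun x y => (toU (res (Un X) (inf_le_inf (hle x) (hle y)) (C.g x y)) : Γ(X, V x ⊓ V y))) (fun x y => ?_)
    fun x y => ?_
  · rw [AModX.res_res, AModX.res_res]
    exact transition_res hg x y (W := V x ⊓ V y) (inf_le_left.trans (hle x)) (inf_le_right.trans (hle y))
  · rw [AModX.res_smul, AModX.res_smul, smul_smul, ht x y, toU_sub, Units.val_mul, ← toU_res, ← toU_res,
      Units.inv_mul_cancel_right]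
    congr 1
    exact (map_one (resR (inf_le_left : V x ⊓ V y ≤ V x))).trans (map_one (resR (inf_le_right : V x ⊓ V y ≤ V y))).symm

/-- The cohomology class of an invertible class. -/
def θ (c : PicLoc.PicSet X) : CohTop.H (Un X) 1 :=
  η (exists_coc c.2.choose_spec.2).choose

theorem θ_eq {c : PicLoc.PicSet X} {L : X.Modules} (hc : c.1 = PicF.cl L) {C : Coc (Un X)} (h : Realises C L) :
    θ c = η C := by
  have h0 := (exists_coc c.2.choose_spec.2).choose_spec
  obtain ⟨φ⟩ := (PicGrp.cl_eq_cl_iff _ _).1 (c.2.choose_spec.1.trans hc)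
  exact h.η_eq (h0.of_iso φ)

theorem exists_rep (c : PicLoc.PicSet X) : ∃ (L : X.Modules) (C : Coc (Un X)),
    c.1 = PicF.cl L ∧ PicF.IsInvertible L ∧ Realises C L ∧ θ c = η C :=
  ⟨_, _, c.2.choose_spec.1.symm, c.2.choose_spec.2, (exists_coc c.2.choose_spec.2).choose_spec, rfl⟩

theorem θ_mul [PicGrp.Law X] (a b : PicLoc.PicSet X) : θ (a * b) = θ a + θ b := by
  obtain ⟨L, C, hL, -, hC, ha⟩ := exists_rep a
  obtain ⟨M, D, hM, -, hD, hb⟩ := exists_rep b
  rw [ha, hb, ← η_add]
  refine θ_eq ?_ (hC.add hD)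
  rw [PicGrp.Law.mul_val, hL, hM, PicGrp.mulCl_cl]

theorem θ_surjective : Function.Surjective (θ (X := X)) := fun z => by
  obtain ⟨C, rfl⟩ := η_surjective z
  obtain ⟨L, hL, hC⟩ := exists_mod C
  exact ⟨⟨PicF.cl L, L, rfl, hL⟩, θ_eq rfl hC⟩

theorem eq_of_θ_eq_zero {c : PicLoc.PicSet X} (h : θ c = 0) : c = PicLoc.unitPicSet X := by
  obtain ⟨L, C, hL, -, hC, hc⟩ := exists_rep c
  exact Subtype.ext (hL.trans ((PicGrp.cl_eq_cl_iff _ _).2 (hC.iso_of_isTriv ((η_eq_zero_iff C).1 (hc ▸ h)))))

/-- The map to cohomology as a homomorphism. -/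
def picHom (X : Scheme.{u}) [PicGrp.Law X] : Additive (PicLoc.PicSet X) →+ CohTop.H (Un X) 1 :=
  AddMonoidHom.mk' (fun c => θ (Additive.toMul c)) fun a b => θ_mul (Additive.toMul a) (Additive.toMul b)

theorem picHom_injective (X : Scheme.{u}) [PicGrp.Law X] : Function.Injective (picHom X) := by
  refine (injective_iff_map_eq_zero (picHom X)).2 fun c h => ?_
  have h1 : Additive.toMul c = 1 := (eq_of_θ_eq_zero (c := Additive.toMul c) h).trans PicGrp.one_eq_unitPicSet.symm
  exact congrArg Additive.ofMul h1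

theorem picHom_surjective (X : Scheme.{u}) [PicGrp.Law X] : Function.Surjective (picHom X) := fun z => by
  obtain ⟨c, hc⟩ := θ_surjective z
  exact ⟨Additive.ofMul c, hc⟩

/-- The Picard group is the first cohomology of the units. -/
def picEquiv (X : Scheme.{u}) [PicGrp.Law X] : Additive (PicLoc.PicSet X) ≃+ CohTop.H (Un X) 1 :=
  AddEquiv.ofBijective (picHom X) ⟨picHom_injective X, picHom_surjective X⟩

end Groth.Agent.PicH1
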